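import Groth.Prelude.Def_AnEps
import Groth.Agent.An.H863.PtsPullback
import Groth.Agent.Etbase.LanFlat

/-!
# The comparison functor `U ↦ U(ℂ)` preserves finite limits; `ε^*` is exact
-/

set_option autoImplicit false
open CategoryTheory CategoryTheory.Limits AlgebraicGeometry Opposite TopologicalSpace Topology

noncomputable section

namespace Groth.Agent.An.H883.EpsLim

section Pullback

variable {P U V W : Scheme.{0}} [P.Over An.SC] [U.Over An.SC] [V.Over An.SC] [W.Over An.SC]
  {p : P ⟶ U} {q : P ⟶ V} {f : U ⟶ W} {g : V ⟶ W}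
  [p.IsOver An.SC] [f.IsOver An.SC] [g.IsOver An.SC]

/-- The lift of a compatible pair of points to a cartesian square. -/
def liftPt (h : IsPullback p q f g) (a : An.Pts U) (b : An.Pts V)
    (e : An.Pts.map f a = An.Pts.map g b) : An.Pts P :=
  ⟨h.lift a.1 b.1 (congrArg Subtype.val e), by
    rw [← comp_over p An.SC, h.lift_fst_assoc]
    exact a.2⟩

lemma liftPt_val_fst (h : IsPullback p q f g) (a : An.Pts U) (b : An.Pts V)
    (e : An.Pts.map f a = An.Pts.map g b) : (liftPt h a b e).1 ≫ p = a.1 :=
  h.lift_fst _ _ _

lemma liftPt_val_snd (h : IsPullback p q f g) (a : An.Pts U) (b : An.Pts V)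
    (e : An.Pts.map f a = An.Pts.map g b) : (liftPt h a b e).1 ≫ q = b.1 :=
  h.lift_snd _ _ _

/-- Continuity of the lift. -/
lemma continuous_liftPt (h : IsPullback p q f g) {T : Type*} [TopologicalSpace T]
    (a : T → An.Pts U) (b : T → An.Pts V) (ha : Continuous a) (hb : Continuous b)
    (e : ∀ t, An.Pts.map f (a t) = An.Pts.map g (b t)) :
    Continuous (fun t => liftPt h (a t) (b t) (e t)) := by
  have hover : h.isoPullback.inv.IsOver An.SC := ⟨by
    rw [← comp_over p An.SC]
    rw [IsPullback.isoPullback_inv_fst_assoc]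
    rfl⟩
  have e1 : (fun t => liftPt h (a t) (b t) (e t)) = fun t =>
      An.Pts.map h.isoPullback.inv
        (Groth.Agent.An.H863.PtsPullback.lift f g ⟨(a t, b t), e t⟩) := by
    funext t
    apply Subtype.ext
    apply h.hom_ext
    · rw [liftPt_val_fst, An.Pts.map_val, Category.assoc, IsPullback.isoPullback_inv_fst]
      exact (Limits.pullback.lift_fst _ _ _).symm
    · rw [liftPt_val_snd, An.Pts.map_val, Category.assoc, IsPullback.isoPullback_inv_snd]
      exact (Limits.pullback.lift_snd _ _ _).symm
  rw [e1]
  refine (An.Pts.continuous_map _).comp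
    ((Groth.Agent.An.H863.PtsPullback.continuous_lift f g).comp ?_)
  exact (ha.prodMk hb).subtype_mk _

end Pullback

section Etale

variable (X : Scheme.{0})

set_option backward.isDefEq.respectTransparency.types false in
/-- A cartesian square of small étale sites gives a cartesian square of schemes. -/
lemma isPullback_left {P U V W : X.Etale} {p : P ⟶ U} {q : P ⟶ V} {f : U ⟶ W} {g : V ⟶ W}
    (h : IsPullback p q f g) : IsPullback p.left q.left f.left g.left := by
  have h1 := h.map (Scheme.Etale.forget X)
  exact h1.map (Over.forget X)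

end Etale

variable (X : Scheme.{0}) [X.Over An.SC] [LocallyOfFiniteType (X ↘ An.SC)] [Fact An.EtaleLH]

set_option backward.isDefEq.respectTransparency.types false in
/-- The lift of a pair of morphisms to `ε(P)`, for a cartesian square with vertex `P`. -/
def liftCl {P U V W : X.Etale} {p : P ⟶ U} {q : P ⟶ V} {f : U ⟶ W} {g : V ⟶ W}
    (h : IsPullback p q f g) {A : An.Cl (An.Pts X)} (a : A ⟶ (An.eps X).obj U)
    (b : A ⟶ (An.eps X).obj V) (e : a ≫ (An.eps X).map f = b ≫ (An.eps X).map g) :
    A ⟶ (An.eps X).obj P where
  toFun t := liftPt (isPullback_left X h) (a.toFun t) (b.toFun t)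
    (congrFun (congrArg An.Cl.Hom.toFun e) t)
  continuous := continuous_liftPt (isPullback_left X h) a.toFun b.toFun a.continuous b.continuous
    (fun t => congrFun (congrArg An.Cl.Hom.toFun e) t)
  over t := by
    rw [← a.over t]
    apply Subtype.ext
    have h1 := liftPt_val_fst (isPullback_left X h) (a.toFun t) (b.toFun t)
      (congrFun (congrArg An.Cl.Hom.toFun e) t)
    change _ ≫ P.hom = (a.toFun t).1 ≫ U.hom
    have h2 : p.left ≫ U.hom = P.hom := Over.w p.hom
    rw [← h2, ← Category.assoc]
    exact congrArg (· ≫ U.hom) h1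

set_option backward.isDefEq.respectTransparency.types false in
/-- `eps X` sends cartesian squares to cartesian squares. -/
theorem isPullback_eps {P U V W : X.Etale} {p : P ⟶ U} {q : P ⟶ V} {f : U ⟶ W} {g : V ⟶ W}
    (h : IsPullback p q f g) : IsPullback ((An.eps X).map p) ((An.eps X).map q)
      ((An.eps X).map f) ((An.eps X).map g) := by
  have h1 := isPullback_left X h
  have hc : ∀ (s : PullbackCone ((An.eps X).map f) ((An.eps X).map g)) (t : s.pt.E),
      An.Pts.map f.left (s.fst.toFun t) = An.Pts.map g.left (s.snd.toFun t) := fun s t =>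
    congrFun (congrArg An.Cl.Hom.toFun s.condition) t
  refine ⟨⟨by rw [← Functor.map_comp, ← Functor.map_comp, h.w]⟩,
    ⟨PullbackCone.IsLimit.mk _ (fun s => liftCl X h s.fst s.snd s.condition) ?_ ?_ ?_⟩⟩
  · intro s
    refine An.Cl.hom_ext (funext fun t => Subtype.ext ?_)
    exact liftPt_val_fst h1 (s.fst.toFun t) (s.snd.toFun t) (hc s t)
  · intro s
    refine An.Cl.hom_ext (funext fun t => Subtype.ext ?_)
    exact liftPt_val_snd h1 (s.fst.toFun t) (s.snd.toFun t) (hc s t)
  · intro s m hm1 hm2
    refine An.Cl.hom_ext (funext fun t => Subtype.ext ?_)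
    apply h1.hom_ext
    · refine Eq.trans ?_ (liftPt_val_fst h1 (s.fst.toFun t) (s.snd.toFun t) (hc s t)).symm
      exact congrArg Subtype.val (congrFun (congrArg An.Cl.Hom.toFun hm1) t)
    · refine Eq.trans ?_ (liftPt_val_snd h1 (s.fst.toFun t) (s.snd.toFun t) (hc s t)).symm
      exact congrArg Subtype.val (congrFun (congrArg An.Cl.Hom.toFun hm2) t)

set_option backward.isDefEq.respectTransparency.types false in
/-- The terminal object of the small étale site. -/
def topIsTerminal (X : Scheme.{0}) : IsTerminal (EtCoh.top X) :=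
  MorphismProperty.Over.mkIdTerminal EtCoh.etaleMP X

set_option backward.isDefEq.respectTransparency.types false in
theorem preservesTerminal_eps : PreservesLimit (Functor.empty.{0} X.Etale) (An.eps X) := by
  refine preservesLimit_of_preserves_limit_cone (topIsTerminal X) ?_
  exact (isLimitMapConeEmptyConeEquiv (An.eps X) (EtCoh.top X)).symm
    ((An.Cl.selfIsTerminal (An.Pts X)).ofIso (An.epsTopIso X).symm)

set_option backward.isDefEq.respectTransparency.types false in
/-- The comparison functor `U ↦ U(ℂ)` preserves finite limits. -/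
theorem preservesFiniteLimits_eps : PreservesFiniteLimits (An.eps X) := by
  have h1 : PreservesLimitsOfShape (Discrete.{0} PEmpty) (An.eps X) :=
    have := preservesTerminal_eps X
    preservesLimitsOfShape_pempty_of_preservesTerminal _
  have h2 : PreservesLimitsOfShape WalkingCospan (An.eps X) := by
    constructor
    intro K
    have h3 : PreservesLimit (cospan (K.map WalkingCospan.Hom.inl) (K.map WalkingCospan.Hom.inr))
        (An.eps X) := by
      have hp := IsPullback.of_hasPullback (K.map WalkingCospan.Hom.inl) (K.map WalkingCospan.Hom.inr)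
      refine preservesLimit_of_preserves_limit_cone hp.isLimit ?_
      exact (isLimitMapConePullbackConeEquiv (An.eps X) hp.w).symm (isPullback_eps X hp).isLimit
    exact preservesLimit_of_iso_diagram _ (diagramIsoCospan K).symm
  exact preservesFiniteLimits_of_preservesTerminal_and_pullbacks _

theorem representablyFlat_eps : RepresentablyFlat (An.eps X) := by
  have := preservesFiniteLimits_eps X
  exact flat_of_preservesFiniteLimits _

set_option backward.isDefEq.respectTransparency.types false in
/-- The inverse image `ε^*` is exact. -/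
theorem preservesFiniteLimits_epsPull [An.EpsCont X] : PreservesFiniteLimits (An.epsPull X) := by
  have hflat := representablyFlat_eps X
  have hfl : ∀ K : (An.Cl (An.Pts X))ᵒᵖ, IsFiltered (CostructuredArrow (An.eps X).op K) := fun K =>
    IsFiltered.of_equivalence (structuredArrowOpEquivalence (An.eps X) (unop K))
  have : ∀ K : (An.Cl (An.Pts X))ᵒᵖ, HasColimitsOfShape (CostructuredArrow (An.eps X).op K)
      AddCommGrpCat.{1} := fun K => inferInstance
  have : PreservesFiniteLimits ((An.eps X).op.lan :
      (_ ⥤ AddCommGrpCat.{1}) ⥤ (An.Cl (An.Pts X))ᵒᵖ ⥤ AddCommGrpCat.{1}) :=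
    Groth.Agent.Etbase.LanFlat.preservesFiniteLimits_op_lan _ _ (fun K => by
      have := hfl K
      have : HasFilteredColimitsOfSize.{0, 1} AddCommGrpCat.{1} :=
        hasFilteredColimitsOfSize_shrink.{0, 1, 1, 1}
      have : AB5OfSize.{0, 1} AddCommGrpCat.{1} := AB5OfSize_shrink.{0, 1, 1, 1} _
      exact HasExactColimitsOfShape.preservesFiniteLimits)
  exact Functor.sheafPullbackConstruction.preservesFiniteLimits _ _ _ _

end Groth.Agent.An.H883.EpsLim
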